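import Groth.Agent.RefReg90.Algebra
import Groth.Agent.Div86.Ref.OpenRestrict
import Groth.Agent.Div86.Ref.Extend
import Groth.Agent.RefX.Ext
import Groth.Agent.AffineNhd.Glue
import Groth.Agent.RegLoc6.Serre
import Groth.Agent.RegLoc6.Normal
import Groth.Agent.S0605
import Groth.Agent.S2821
import Groth.Agent.QCoh.Support

/-!
# Reflexive modules on regular integral schemes
-/

set_option linter.style.haveILetI false
set_option backward.isDefEq.respectTransparency false
set_option backward.isDefEq.respectTransparency.types false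

universe u

open CategoryTheory CategoryTheory.Limits AlgebraicGeometry TopologicalSpace Opposite

noncomputable section

namespace Groth.Agent.RefReg90

open Groth.Agent

/-- Depth is bounded by the dimension over a regular local ring. -/
theorem depth_le_ringKrullDim (R : Type u) [CommRing R] [IsRegularLocalRing R] (M : Type u) [AddCommGroup M]
    [Module R M] [Module.Finite R M] [Nontrivial M] :
    ((LocCoh.depth R M : ℕ∞) : WithBot ℕ∞) ≤ ringKrullDim R := by
  classical
  haveI := LC.gorenstein_of_isRegularLocalRing (R := R)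
  haveI hcm : LocCoh.IsCohenMacaulayLocalRing R := LC.isCohenMacaulayLocalRing_of_gorenstein
  have hex : ∃ e, RegLoc6.PdLE R e M := ⟨_, RegLoc6.pdLE_of_isRegularLocalRing R M⟩
  have hAB := CAlgOdd.AB.depth_add_eq (Nat.find hex) M (Nat.find_spec hex) (fun e' he' => Nat.find_min hex he')
  have hD : ringKrullDim R = ((LocCoh.depth R R : ℕ∞) : WithBot ℕ∞) := by
    rw [← Module.supportDim_self_eq_ringKrullDim]
    exact hcm.supportDim_eq_depth
  rw [hD, WithBot.coe_le_coe, ← hAB]
  exact le_self_add

variable {X : Scheme.{u}} [IsIntegral X] [IsLocallyNoetherian X]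
  (hreg : ∀ x : X, IsRegularLocalRing (X.presheaf.stalk x)) {F : X.Modules}

include hreg in
omit [IsIntegral X] [IsLocallyNoetherian X] in
theorem isNormalScheme : Pi1.IsNormalScheme X := fun x => by
  haveI := hreg x
  exact ⟨RegLoc6.isDomain_of_isRegularLocalRing _, RegLoc6.isIntegrallyClosed_of_isRegularLocalRing _⟩

include hreg in
/-- A reflexive module is free where the local ring has dimension at most two. -/
theorem free_stalk_of_reflexive (hF : Coh.IsCoh F) (hr : RefHull.IsReflexive F) (x : X)
    (hd : ¬ (3 : WithBot ℕ∞) ≤ ringKrullDim (X.presheaf.stalk x)) :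
    Module.Free (X.presheaf.stalk x) (F.presheaf.stalk x) := by
  haveI := Div86.Ref.finite_stalk hF x
  haveI := Div86.Ref.isTorsionFree_of_reflexive hF hr x
  rcases Div86.Ref.point_cases x with rfl | h1 | h2
  · exact Module.Free.of_divisionRing X.functionField (F.presheaf.stalk (genericPoint X))
  · haveI := Div86.Ref.isPID (isNormalScheme hreg) h1
    exact Module.free_of_finite_type_torsion_free'
  · rcases subsingleton_or_nontrivial (F.presheaf.stalk x) with hM | hM
    · exact Module.Free.of_subsingleton _ _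
    haveI := hreg x
    refine S0605.result _ _ (le_antisymm (depth_le_ringKrullDim _ _) ?_)
    refine le_trans ?_ (WithBot.coe_le_coe.2 (Div86.Ref.two_le_depth_ref (isNormalScheme hreg) h2 hF hr))
    rw [ringKrullDim_stalk_eq_coheight] at hd ⊢
    show ((Order.coheight x : ℕ∞) : WithBot ℕ∞) ≤ ((2 : ℕ∞) : WithBot ℕ∞)
    rw [WithBot.coe_le_coe]
    refine Order.le_of_lt_add_one (lt_of_not_ge fun h => hd ?_)
    show ((3 : ℕ∞) : WithBot ℕ∞) ≤ _
    exact WithBot.coe_le_coe.2 h

include hreg in
/-- A reflexive module of rank one has free stalks. -/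
theorem free_stalk_of_rankOne (hF : Coh.IsCoh F) (hr : RefHull.IsReflexive F) (hrk : RefHull.GenInvertible F)
    (x : X) : Module.Free (X.presheaf.stalk x) (F.presheaf.stalk x) := by
  haveI := Div86.Ref.finite_stalk hF x
  haveI := hreg x
  obtain ⟨hdom, hufd⟩ := S2821.result (X.presheaf.stalk x)
  haveI := hdom
  haveI := hufd
  haveI := Div86.Ref.isTorsionFree_of_reflexive hF hr x
  haveI : Module.IsReflexive (X.presheaf.stalk x) (F.presheaf.stalk x) := (RefX.isReflexive_iff hF).1 hr x
  obtain ⟨g, hg⟩ := Div86.Ref.exists_isGen_generic hrk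
  choose c hc using fun m : F.presheaf.stalk x => Div86.Ref.exists_coord_gen hg (Div86.Ref.toGen F x m)
  have huniq : ∀ a b : X.functionField, a • g = b • g → a = b := fun a b h =>
    sub_eq_zero.1 (hg.2 _ (by rw [sub_smul, h, sub_self]))
  let ι : F.presheaf.stalk x →ₗ[X.presheaf.stalk x] X.functionField :=
    { toFun := c
      map_add' := fun a b => huniq _ _ (by rw [hc, map_add, add_smul, hc, hc])
      map_smul' := fun r a => huniq _ _ (by
        rw [hc, RingHom.id_apply, Div86.Ref.toGen_smul, Algebra.smul_def, mul_smul, hc]) }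
  have hι : Function.Injective ι := fun a b hab => Div86.Ref.toGen_injective hF.1 x
    (by rw [← hc a, ← hc b]; exact congrArg (· • g) hab)
  haveI := free_dual_of_injective_fractionRing X.functionField ι hι
  exact Module.Free.of_equiv (Module.evalEquiv (X.presheaf.stalk x) (F.presheaf.stalk x)).symm

theorem isFinLocFree_of_free_stalks {Y : Scheme.{u}} [IsLocallyNoetherian Y] {F : Y.Modules} (hF : Coh.IsCoh F)
    (h : ∀ y : Y, Module.Free (Y.presheaf.stalk y) (F.presheaf.stalk y)) : FlatMod.IsFinLocFree F :=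
  QCoh.isFinLocFree_iff.2 ⟨QCoh.isCoh_iff_isFP.1 hF, h⟩

/-- Opens with complement of codimension two inside `U` come from such opens of `X`. -/
theorem exists_extend_open (U V : X.Opens) (hVU : V ≤ U)
    (h : ∀ x : X, x ∈ U → x ∉ V → (2 : WithBot ℕ∞) ≤ ringKrullDim (X.presheaf.stalk x)) :
    ∃ V' : X.Opens, U ⊓ V' = V ∧ ∀ x : X, x ∉ V' → (2 : WithBot ℕ∞) ≤ ringKrullDim (X.presheaf.stalk x) := by
  let C : X.Opens := ⟨(closure ((U : Set X) \ (V : Set X)))ᶜ, isClosed_closure.isOpen_compl⟩
  refine ⟨V ⊔ C, ?_, fun x hx => ?_⟩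
  · apply le_antisymm
    · rintro y ⟨hU, hV | hC⟩
      · exact hV
      · by_contra hv
        exact hC (subset_closure ⟨hU, hv⟩)
    · exact le_inf hVU le_sup_left
  · have hx' : x ∈ closure ((U : Set X) \ (V : Set X)) := by
      by_contra hc
      exact hx (Or.inr hc)
    obtain ⟨_, ⟨W, hW, rfl⟩, hxW, -⟩ := X.isBasis_affineOpens.exists_subset_of_mem_open (Set.mem_univ x) isOpen_univ
    haveI : IsNoetherianRing Γ(X, W) := IsLocallyNoetherian.component_noetherian ⟨W, hW⟩
    have hns : NoetherianSpace ↥(W : X.Opens) := noetherianSpace_of_isAffineOpen W hW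
    have hc : IsCompact ((U ⊓ W : X.Opens) : Set X) := by
      have h1 := (@NoetherianSpace.isCompact _ _ hns
        ((fun w : ↥(W : X.Opens) => (w : X)) ⁻¹' (U : Set X))).image continuous_subtype_val
      have h2 : ((U ⊓ W : X.Opens) : Set X) =
          (fun w : ↥(W : X.Opens) => (w : X)) '' ((fun w : ↥(W : X.Opens) => (w : X)) ⁻¹' (U : Set X)) :=
        Set.ext fun y => ⟨fun hy => ⟨⟨y, hy.2⟩, hy.1, rfl⟩, fun ⟨w, hw, hwy⟩ => hwy ▸ ⟨hw, w.2⟩⟩
      rw [h2]
      exact h1
    have hxc : x ∈ closure (((U ⊓ W : X.Opens) : Set X) \ (V : Set X)) := by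
      rw [mem_closure_iff] at hx' ⊢
      intro o ho hxo
      obtain ⟨y, ⟨hyo, hyW⟩, hyU, hyV⟩ := hx' (o ∩ W) (ho.inter W.2) ⟨hxo, hxW⟩
      exact ⟨y, hyo, ⟨hyU, hyW⟩, hyV⟩
    obtain ⟨z, hz, hzV, hzx⟩ := AffineNhd.exists_specializes_of_mem_closure_diff hc hxc
    refine (h z hz.1 hzV).trans ?_
    rw [ringKrullDim_stalk_eq_coheight, ringKrullDim_stalk_eq_coheight]
    exact WithBot.coe_le_coe.2 (Order.coheight_anti hzx)

/-- Restriction across codimension two, for opens inside `U`. -/
theorem bijective_map_of_extends {M : X.Modules} {U V V' : X.Opens} (hVU : V ≤ U) (e : U ⊓ V' = V)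
    (hM : RefX.ExtendsAcross V' M) : Function.Bijective (M.presheaf.map (homOfLE hVU).op) := by
  subst e
  exact hM U

include hreg in
/-- Reflexive modules have sections extending across codimension two. -/
theorem normal_of_reflexive (hF : Coh.IsCoh F) (hr : RefHull.IsReflexive F) (U V : X.Opens) (hVU : V ≤ U)
    (h : ∀ x : X, x ∈ U → x ∉ V → (2 : WithBot ℕ∞) ≤ ringKrullDim (X.presheaf.stalk x)) :
    Function.Bijective (F.presheaf.map (homOfLE hVU).op) := by
  obtain ⟨V', e, hV'⟩ := exists_extend_open U V hVU h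
  exact bijective_map_of_extends hVU e
    (RefX.extendsAcross_reflexive hF hr fun x hx => Div86.Ref.two_le_depth (isNormalScheme hreg) (hV' x hx))

omit [IsLocallyNoetherian X] in
/-- Restriction is injective for torsion-free modules. -/
theorem injective_map_of_torsionFree (hF : Coh.IsQCoh F) (htf : TorSh.IsTorsionFree F) {U V : X.Opens}
    (hVU : V ≤ U) (hV : ∀ hU : (U : Set X).Nonempty, genericPoint X ∈ V) :
    Function.Injective (F.presheaf.map (homOfLE hVU).op) := by
  intro a b hab
  rcases (U : Set X).eq_empty_or_nonempty with h0 | hne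
  · exact AModX.eq_of_locally _ _ fun p hp => absurd hp (Set.eq_empty_iff_forall_notMem.1 h0 p)
  · refine Div86.Ref.sect_ext hF htf (hVU (hV hne)) ?_
    have := congrArg (F.presheaf.germ V (genericPoint X) (hV hne)) hab
    rw [TopCat.Presheaf.germ_res_apply, TopCat.Presheaf.germ_res_apply] at this
    exact this

omit [IsLocallyNoetherian X] in
theorem generic_mem_of_codim_two {U V : X.Opens}
    (h : ∀ x : X, x ∈ U → x ∉ V → (2 : WithBot ℕ∞) ≤ ringKrullDim (X.presheaf.stalk x))
    (hU : (U : Set X).Nonempty) : genericPoint X ∈ V := by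
  obtain ⟨y, hy⟩ := hU
  by_contra hη
  exact Div86.Ref.ne_generic_of_dim (le_trans (by decide) (h _ (Div86.Ref.generic_mem hy) hη)) rfl

include hreg in
/-- A torsion-free coherent module with sections extending across codimension two is reflexive. -/
theorem reflexive_of_normal (hF : Coh.IsCoh F) (htf : TorSh.IsTorsionFree F)
    (hn : ∀ (U V : X.Opens) (hVU : V ≤ U),
      (∀ x : X, x ∈ U → x ∉ V → (2 : WithBot ℕ∞) ≤ ringKrullDim (X.presheaf.stalk x)) →
      Function.Bijective (F.presheaf.map (homOfLE hVU).op)) : RefHull.IsReflexive F := by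
  have hX := isNormalScheme hreg
  have hD := Div86.Ref.isCoh_ddual hF
  let O : X.Opens := ⟨_, MiscSh16.isOpen_bijective_locus hF hD (RefHull.bidualMap F)⟩
  have hO : ∀ x : X, x ∉ O → (2 : WithBot ℕ∞) ≤ ringKrullDim (X.presheaf.stalk x) := by
    intro x hx
    rcases Div86.Ref.point_cases x with rfl | h1 | h2
    · exact absurd (Div86.Ref.bidual_bijective_generic hF) hx
    · refine absurd ?_ hx
      show Function.Bijective (RefHull.stalkMapₗ (RefHull.bidualMap F) x)
      haveI := htf x
      refine ⟨fun a b hab => Div86.Ref.toGen_injective hF.1 x ((Div86.Ref.bidual_bijective_generic hF).1 ?_),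
        Div86.Ref.bidual_surjective_codim_one hX h1 hF⟩
      rw [Div86.Ref.toGen_natural, Div86.Ref.toGen_natural, hab]
    · exact h2
  have hDext := RefX.extendsAcross_reflexive hD (Div86.Ref.isReflexive_ddual hF)
    fun x hx => Div86.Ref.two_le_depth hX (hO x hx)
  have hFext : RefX.ExtendsAcross O F := fun W => hn W (W ⊓ O) inf_le_left fun x hxW hx =>
    hO x fun hO' => hx ⟨hxW, hO'⟩
  show IsIso (RefHull.bidualMap F)
  refine Scheme.Modules.Hom.isIso_iff_isIso_app.2 fun W => (ConcreteCategory.isIso_iff_bijective _).2 ?_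
  have hb : Function.Bijective ((RefHull.bidualMap F).app (W ⊓ O)) :=
    TopCat.Presheaf.app_bijective_of_stalkFunctor_map_bijective
      ((KFlatLib.toAb X).map (RefHull.bidualMap F)) (W ⊓ O) fun y hy => hy.2
  have h1 : (AModX.res (RefHull.ddual F) (inf_le_left : W ⊓ O ≤ W)) ∘ ((RefHull.bidualMap F).app W : Γ(F, W) → _) =
      ((RefHull.bidualMap F).app (W ⊓ O) : Γ(F, W ⊓ O) → _) ∘ AModX.res F (inf_le_left : W ⊓ O ≤ W) :=
    funext fun m => (AModX.app_res (RefHull.bidualMap F) inf_le_left m).symm
  refine (Function.Bijective.of_comp_iff' (hDext W) _).1 ?_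
  rw [h1]
  exact hb.comp (hFext W)

include hreg in
/-- The kernel of a surjection from a reflexive onto a torsion-free module is normal. -/
theorem normal_of_sub {S : ShortComplex X.Modules} (hS : S.ShortExact) (hE : Coh.IsCoh S.X₂)
    (hQ : Coh.IsCoh S.X₃) (hEr : RefHull.IsReflexive S.X₂) (hQt : TorSh.IsTorsionFree S.X₃)
    (U V : X.Opens) (hVU : V ≤ U)
    (h : ∀ x : X, x ∈ U → x ∉ V → (2 : WithBot ℕ∞) ≤ ringKrullDim (X.presheaf.stalk x)) :
    Function.Bijective (S.X₁.presheaf.map (homOfLE hVU).op) := by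
  haveI := hS.mono_f
  obtain ⟨hinj, hsurj⟩ := normal_of_reflexive hreg hE hEr U V hVU h
  refine ⟨fun a b hab => QCoh.app_injective S.f U (hinj ?_), fun s => ?_⟩
  · exact ((AModX.app_res S.f hVU a).symm.trans ((congrArg _ hab).trans (AModX.app_res S.f hVU b)))
  · obtain ⟨e, he⟩ := hsurj (S.f.app V s)
    have h0 : S.g.app U e = 0 := by
      refine injective_map_of_torsionFree hQ.1 hQt hVU (generic_mem_of_codim_two h) ?_
      rw [map_zero]
      refine (AModX.app_res S.g hVU e).symm.trans ?_
      show S.g.app V (S.X₂.presheaf.map (homOfLE hVU).op e) = 0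
      rw [he]
      exact congr(($(S.zero)).app V s)
    obtain ⟨a, ha⟩ := QCoh.exists_app_f_eq hS U e h0
    exact ⟨a, QCoh.app_injective S.f V ((AModX.app_res S.f hVU a).trans ((congrArg _ ha).trans he))⟩

end Groth.Agent.RefReg90
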