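import Mathlib.RingTheory.UniqueFactorizationDomain.GCDMonoid
import Mathlib.RingTheory.Localization.Integer
import Mathlib.RingTheory.Localization.FractionRing
import Mathlib.LinearAlgebra.Dual.Lemmas

/-!
# Modules of rank one over factorial domains
-/

universe u

namespace Groth.Agent.RefReg90

variable {R : Type u} [CommRing R] [IsDomain R] [UniqueFactorizationMonoid R]
  {M : Type u} [AddCommGroup M] [Module R M] [Module.Finite R M]

/-- The dual of a finite module embedded in a factorial domain is free. -/
theorem free_dual_of_injective (j : M →ₗ[R] R) (hj : Function.Injective j) : Module.Free R (Module.Dual R M) := by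
  classical
  rcases subsingleton_or_nontrivial M with h | h
  · haveI : Subsingleton (Module.Dual R M) := ⟨fun a b => LinearMap.ext fun m => by rw [Subsingleton.elim m 0, map_zero, map_zero]⟩
    exact Module.Free.of_subsingleton R _
  letI : StrongNormalizationMonoid R := UniqueFactorizationMonoid.normalizationMonoid
  letI : StrongNormalizedGCDMonoid R := UniqueFactorizationMonoid.toStrongNormalizedGCDMonoid R
  obtain ⟨s, hs⟩ := (Module.Finite.fg_top : (⊤ : Submodule R M).FG)
  obtain ⟨m₀, hm₀⟩ := exists_ne (0 : M)
  set g := s.gcd j with hg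
  have hdvd : ∀ m, g ∣ j m := fun m => by
    have hm : m ∈ Submodule.span R (s : Set M) := by rw [hs]; trivial
    induction hm using Submodule.span_induction with
    | mem x hx => exact Finset.gcd_dvd hx
    | zero => rw [map_zero]; exact dvd_zero _
    | add x y _ _ hx hy => rw [map_add]; exact dvd_add hx hy
    | smul r x _ hx => rw [map_smul, smul_eq_mul]; exact hx.mul_left r
  choose c hc using hdvd
  have hg0 : g ≠ 0 := fun h0 => hm₀ (hj (by rw [hc m₀, h0, zero_mul, map_zero]))
  let j₀ : Module.Dual R M :=
    { toFun := c
      map_add' := fun a b => mul_left_cancel₀ hg0 (by rw [← hc, map_add, hc, hc, mul_add])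
      map_smul' := fun r a => mul_left_cancel₀ hg0 (by rw [← hc, map_smul, hc, RingHom.id_apply, smul_eq_mul, smul_eq_mul]; ring) }
  have hc0 : ∀ m, m ≠ 0 → j₀ m ≠ 0 := fun m hm h0 => hm (hj (by rw [hc m, show c m = 0 from h0, mul_zero, map_zero]))
  have hrel : ∀ (φ : Module.Dual R M) (a b : M), j₀ b * φ a = j₀ a * φ b := fun φ a b => by
    have : j b • a = j a • b := hj (by rw [map_smul, map_smul, smul_eq_mul, smul_eq_mul, mul_comm])
    have h1 := congrArg φ this
    rw [map_smul, map_smul, hc, hc, smul_eq_mul, smul_eq_mul, mul_assoc, mul_assoc] at h1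
    exact mul_left_cancel₀ hg0 h1
  have hgcd : IsUnit (s.gcd j₀) := by
    have h1 : s.gcd j = normalize g * s.gcd j₀ :=
      (Finset.gcd_congr rfl fun m _ => hc m).trans Finset.gcd_mul_left
    have h2 : g = g * s.gcd j₀ := by rwa [← hg, show normalize g = g from Finset.normalize_gcd] at h1
    exact IsUnit.of_mul_eq_one 1 (by rw [mul_one]; exact (mul_left_cancel₀ hg0 (by rw [mul_one]; exact h2)).symm)
  have hsurj : Function.Surjective (LinearMap.toSpanSingleton R (Module.Dual R M) j₀) := by
    intro φ
    have hd : j₀ m₀ ∣ φ m₀ := by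
      have h1 : j₀ m₀ ∣ s.gcd fun m => φ m₀ * j₀ m :=
        Finset.dvd_gcd fun m _ => ⟨φ m, by rw [mul_comm (φ m₀), hrel φ m₀ m, mul_comm]⟩
      rw [Finset.gcd_mul_left] at h1
      exact (dvd_normalize_iff).1 (hgcd.dvd_mul_right.1 h1)
    obtain ⟨a, ha⟩ := hd
    refine ⟨a, LinearMap.ext fun m => mul_left_cancel₀ (hc0 _ hm₀) ?_⟩
    rw [LinearMap.toSpanSingleton_apply, LinearMap.smul_apply, smul_eq_mul, hrel φ m m₀, ha]
    ring
  refine Module.Free.of_equiv (LinearEquiv.ofBijective _ ⟨?_, hsurj⟩)
  intro a b hab
  exact mul_right_cancel₀ (hc0 _ hm₀) (LinearMap.congr_fun hab m₀)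

/-- The dual of a finite module embedded in the fraction field of a factorial domain is free. -/
theorem free_dual_of_injective_fractionRing (K : Type u) [CommRing K] [Algebra R K] [IsFractionRing R K]
    (ι : M →ₗ[R] K) (hι : Function.Injective ι) : Module.Free R (Module.Dual R M) := by
  classical
  obtain ⟨s, hs⟩ := (Module.Finite.fg_top : (⊤ : Submodule R M).FG)
  obtain ⟨d, hd⟩ := IsLocalization.exist_integer_multiples (nonZeroDivisors R) s (fun m => ι m)
  have hint : ∀ m, IsLocalization.IsInteger R ((d : R) • ι m) := fun m => by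
    have hm : m ∈ Submodule.span R (s : Set M) := by rw [hs]; trivial
    induction hm using Submodule.span_induction with
    | mem x hx => exact hd x hx
    | zero => rw [map_zero, smul_zero]; exact IsLocalization.isInteger_zero
    | add x y _ _ hx hy => rw [map_add, smul_add]; exact IsLocalization.isInteger_add hx hy
    | smul r x _ hx => rw [map_smul, smul_comm]; exact IsLocalization.isInteger_smul hx
  choose a ha using hint
  have hinj := IsFractionRing.injective R K
  refine free_dual_of_injective
    { toFun := a
      map_add' := fun x y => hinj (by rw [map_add, ha, ha, ha, map_add, smul_add])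
      map_smul' := fun r x => hinj (by rw [RingHom.id_apply, smul_eq_mul, map_mul, ha, ha, map_smul, smul_comm, ← Algebra.smul_def]) } ?_
  intro x y hxy
  have h1 : (d : R) • ι x = (d : R) • ι y := by rw [← ha, ← ha]; exact congrArg _ hxy
  rw [Algebra.smul_def, Algebra.smul_def] at h1
  exact hι ((IsLocalization.map_units K d).mul_left_cancel h1)

end Groth.Agent.RefReg90
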